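import Groth.Agent.BrauerXSB.GenVec
import Groth.Agent.SBAut.Yoneda
import Groth.Agent.SBAut.Natural
import Groth.Agent.SegreX.Coord
import Groth.Prelude.Def_BrSev2

/-!
# Severi–Brauer schemes of split algebras are projective spaces
-/

universe u

open CategoryTheory CategoryTheory.Limits AlgebraicGeometry Matrix HomogeneousLocalization
open scoped TensorProduct

noncomputable section

namespace Groth.Agent.BrauerXSB

open Groth.Agent.SBAut Groth.Agent.ProjPt

set_option backward.isDefEq.respectTransparency.types false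

variable {k : Type u} [Field k] {A : Type u} [Ring A] [Algebra k A] {K : Type u} [Field K] [Algebra k K]
  {m : ℕ} (Φ : K ⊗[k] A ≃ₐ[K] Matrix (Fin (m + 1)) (Fin (m + 1)) K)
  (hA : Module.finrank k A = (m + 1) * (m + 1))
  {X : Scheme.{u}} {f : X ⟶ Spec (CommRingCat.of k)}
  (s : BrSev.SBStr k A ((m + 1) * (m + 1) - (m + 1)) f)

section Points

variable (K) {R : Type u} [CommRing R] [Algebra k R] [Algebra K R] [IsScalarTower k K R]

omit [Algebra k A] in
theorem specMap_tower :
    Spec.map (CommRingCat.ofHom (algebraMap K R)) ≫ Spec.map (CommRingCat.ofHom (algebraMap k K)) =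
      Spec.map (CommRingCat.ofHom (algebraMap k R)) := by
  rw [← Spec.map_comp, ← CommRingCat.ofHom_comp, ← IsScalarTower.algebraMap_eq]

/-- The point of the base change attached to a left ideal. -/
def toXK (N : BrSev.SBSet k A ((m + 1) * (m + 1) - (m + 1)) R) : Spec (CommRingCat.of R) ⟶ BrSev.bc f K :=
  pullback.lift ((s.bij R).symm N).1 (Spec.map (CommRingCat.ofHom (algebraMap K R)))
    (((s.bij R).symm N).2.trans (specMap_tower K).symm)

theorem toXK_proj (N : BrSev.SBSet k A ((m + 1) * (m + 1) - (m + 1)) R) :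
    toXK K s N ≫ BrSev.proj f K = ((s.bij R).symm N).1 := pullback.lift_fst _ _ _

theorem toXK_bcTo (N : BrSev.SBSet k A ((m + 1) * (m + 1) - (m + 1)) R) :
    toXK K s N ≫ BrSev.bcTo f K = Spec.map (CommRingCat.ofHom (algebraMap K R)) := pullback.lift_snd _ _ _

theorem toXK_injective : Function.Injective (toXK (R := R) K s) := fun N N' h =>
  (s.bij R).symm.injective (Subtype.ext (by rw [← toXK_proj K s N, h, toXK_proj]))

theorem exists_toXK (g : Spec (CommRingCat.of R) ⟶ BrSev.bc f K)
    (hg : g ≫ BrSev.bcTo f K = Spec.map (CommRingCat.ofHom (algebraMap K R))) :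
    ∃ N, toXK K s N = g := by
  refine ⟨s.bij R ⟨g ≫ BrSev.proj f K, ?_⟩, pullback.hom_ext ?_ ?_⟩
  · rw [Category.assoc, pullback.condition, ← Category.assoc]
    exact (congrArg (· ≫ Spec.map (CommRingCat.ofHom (algebraMap k K))) hg).trans (specMap_tower K)
  · exact (toXK_proj K s _).trans (by rw [Equiv.symm_apply_apply])
  · exact (toXK_bcTo K s _).trans hg.symm

variable {S : Type u} [CommRing S] [Algebra k S] [Algebra K S] [IsScalarTower k K S]

theorem specMap_toXK (φ : R →ₐ[K] S) (N : BrSev.SBSet k A ((m + 1) * (m + 1) - (m + 1)) R) :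
    Spec.map (CommRingCat.ofHom φ.toRingHom) ≫ toXK K s N = toXK K s (sbMap (φ.restrictScalars k) N) := by
  refine pullback.hom_ext ?_ ?_
  · rw [Category.assoc]
    refine (congrArg (Spec.map _ ≫ ·) (toXK_proj K s N)).trans (Eq.trans ?_ (toXK_proj K s _).symm)
    have e : (s.bij S).symm (sbMap (φ.restrictScalars k) N) =
        BrSev.Pts.map f (φ.restrictScalars k) ((s.bij R).symm N) := by
      rw [Equiv.symm_apply_eq]
      refine sbSet_ext ?_
      rw [s.natural, Equiv.apply_symm_apply]
      rfl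
    rw [e]
    rfl
  · rw [Category.assoc]
    refine (congrArg (Spec.map _ ≫ ·) (toXK_bcTo K s N)).trans (Eq.trans ?_ (toXK_bcTo K s _).symm)
    rw [← Spec.map_comp, ← CommRingCat.ofHom_comp]
    exact congrArg (fun t => Spec.map (CommRingCat.ofHom t)) φ.comp_algebraMap

end Points

/-- the coordinate ring of a standard chart -/
def Ch (K : Type u) [Field K] (i : Fin (m + 1)) : Type u := Away (CohB1.polyGrading m K) (MvPolynomial.X i)

instance commRing_ch (i : Fin (m + 1)) : CommRing (Ch K i) :=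
  inferInstanceAs (CommRing (Away (CohB1.polyGrading m K) (MvPolynomial.X i)))

/-- the coordinates of a chart -/
def co (i l : Fin (m + 1)) : Ch K i := crd i l

/-- its structure over the splitting field -/
abbrev chAlgK (i : Fin (m + 1)) : Algebra K (Ch K i) := (cst i : K →+* Ch K i).toAlgebra

attribute [local instance] chAlgK

/-- its structure over the base field -/
abbrev chAlgk (i : Fin (m + 1)) : Algebra k (Ch K i) := ((cst i : K →+* Ch K i).comp (algebraMap k K)).toAlgebra

attribute [local instance] chAlgk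

instance tower_ch (i : Fin (m + 1)) : IsScalarTower k K (Ch K i) := IsScalarTower.of_algebraMap_eq fun _ => rfl

variable (K) in
/-- the standard chart -/
abbrev chart (i : Fin (m + 1)) : Spec (CommRingCat.of (Ch K i)) ⟶ CohB1.ProjSpace m K :=
  Proj.awayι (CohB1.polyGrading m K) (MvPolynomial.X i) (X_mem i) one_pos

instance isOpenImmersion_chart (i : Fin (m + 1)) : IsOpenImmersion (chart K i) :=
  inferInstanceAs (IsOpenImmersion (Proj.awayι (CohB1.polyGrading m K) (MvPolynomial.X i) (X_mem i) one_pos))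

omit [Algebra k K] in
theorem chart_toSpec (i : Fin (m + 1)) :
    chart K i ≫ CohB1.ProjSpace.toSpec m K = Spec.map (CommRingCat.ofHom (algebraMap K (Ch K i))) := by
  show Proj.awayι (CohB1.polyGrading m K) (MvPolynomial.X i) (X_mem i) one_pos ≫
    Proj.toSpecZero (CohB1.polyGrading m K) ≫ _ = _
  rw [← Category.assoc, Proj.awayι_toSpecZero, ← Spec.map_comp]
  rfl

theorem co_self (i : Fin (m + 1)) : co (K := K) i i = 1 := crd_self i

theorem isUni_crd (i : Fin (m + 1)) : IsUni (co (K := K) i) :=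
  isUni_of_isUnit (i := i) (by rw [co_self]; exact isUnit_one)

/-- the point over a standard chart -/
def chartPt (i : Fin (m + 1)) : Spec (CommRingCat.of (Ch K i)) ⟶ BrSev.bc f K :=
  toXK K s (genPt Φ hA (Nat.succ_pos m) (co i) (isUni_crd i))

section Local

variable {S : Type u} [CommRing S] [IsLocalRing S] [Algebra k S] [Algebra K S] [IsScalarTower k K S]

theorem specMap_chartPt {i : Fin (m + 1)} (α : Ch K i →ₐ[K] S) :
    Spec.map (CommRingCat.ofHom α.toRingHom) ≫ chartPt Φ hA s i =
      toXK K s (vecPt Φ hA (Nat.succ_pos m) (α ∘ co i) ((isUni_crd i).map α)) := by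
  rw [chartPt, specMap_toXK, sbMap_genPt]

omit [Algebra k K] [Algebra k S] [IsScalarTower k K S] [IsLocalRing S] in
theorem specMap_chart_eq_pt {i : Fin (m + 1)} (α : Ch K i →ₐ[K] S)
    (h : IsUnit (MvPolynomial.eval₂Hom ((Scheme.ΓSpecIso (CommRingCat.of S)).inv.hom.comp (algebraMap K S))
      (fun l => (Scheme.ΓSpecIso (CommRingCat.of S)).inv.hom (α (co i l))) (MvPolynomial.X i))) :
    Spec.map (CommRingCat.ofHom α.toRingHom) ≫ chart K i =
      pt (CohB1.polyGrading m K) (MvPolynomial.eval₂Hom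
        ((Scheme.ΓSpecIso (CommRingCat.of S)).inv.hom.comp (algebraMap K S))
        (fun l => (Scheme.ΓSpecIso (CommRingCat.of S)).inv.hom (α (co i l)))) (X_mem i) one_pos h := by
  let u : Away (CohB1.polyGrading m K) (MvPolynomial.X i) →+* Γ(Spec (CommRingCat.of S), ⊤) :=
    (Scheme.ΓSpecIso (CommRingCat.of S)).inv.hom.comp α.toRingHom
  have hu : u.comp (cst i) =
      (Scheme.ΓSpecIso (CommRingCat.of S)).inv.hom.comp (algebraMap K S) :=
    RingHom.ext fun c => congrArg (Scheme.ΓSpecIso (CommRingCat.of S)).inv.hom (α.commutes c)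
  rw [pt, ← Category.assoc]
  refine congrArg (· ≫ chart K i) ?_
  rw [eq_toSpecΓ (Spec.map (CommRingCat.ofHom α.toRingHom)), ← Scheme.ΓSpecIso_inv_naturality]
  congr 2
  apply CommRingCat.hom_ext
  have h' := eq_coordHom i u (by rw [hu]; exact h)
  simp only [hu] at h'
  exact h'

omit [Algebra k K] [Algebra k S] [IsScalarTower k K S] in
theorem chart_eq_iff {i j : Fin (m + 1)} (α : Ch K i →ₐ[K] S) (β : Ch K j →ₐ[K] S) :
    Spec.map (CommRingCat.ofHom α.toRingHom) ≫ chart K i = Spec.map (CommRingCat.ofHom β.toRingHom) ≫ chart K j ↔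
      Rel (β ∘ co j) (α ∘ co i) := by
  let W := Spec (CommRingCat.of S)
  let γ : S →+* Γ(W, ⊤) := (Scheme.ΓSpecIso (CommRingCat.of S)).inv.hom
  let δ : Γ(W, ⊤) →+* S := (Scheme.ΓSpecIso (CommRingCat.of S)).hom.hom
  have hδγ : ∀ x, δ (γ x) = x := fun x =>
    (Scheme.ΓSpecIso (CommRingCat.of S)).commRingCatIsoToRingEquiv.apply_symm_apply x
  constructor
  · intro h
    obtain ⟨c, -, hc⟩ := exists_unit_of_agree (CohB1.polyGrading m K) (X_mem i) (X_mem j) _ _ h
      (γ.comp α.toRingHom) (γ.comp β.toRingHom)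
      (by rw [eq_toSpecΓ (Spec.map (CommRingCat.ofHom α.toRingHom)), ← Scheme.ΓSpecIso_inv_naturality]; rfl)
      (by rw [eq_toSpecΓ (Spec.map (CommRingCat.ofHom β.toRingHom)), ← Scheme.ΓSpecIso_inv_naturality]; rfl)
    refine rel_of_smul_eq (c := δ c) (funext fun l => ?_)
    have := congrArg δ (hc (MvPolynomial.X l) (X_mem l))
    rw [map_mul] at this
    simp only [RingHom.comp_apply, hδγ] at this
    exact this
  · intro h
    have hi : (α ∘ co i) i = 1 := by simp [co_self]
    have hj : (β ∘ co j) j = 1 := by simp [co_self]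
    have hsmul : ∀ l, β (co j l) = β (co j i) * α (co i l) := fun l => by
      have := h l i
      simp only [Function.comp_apply] at this
      rw [co_self, map_one, mul_one] at this
      exact this
    have hI : ∀ (i : Fin (m + 1)) (α : Ch K i →ₐ[K] S), IsUnit (MvPolynomial.eval₂Hom (γ.comp (algebraMap K S))
        (fun l => γ (α (co i l))) (MvPolynomial.X i)) := fun i α => by
      rw [MvPolynomial.eval₂Hom_X', co_self, map_one, map_one]
      exact isUnit_one
    rw [specMap_chart_eq_pt α (hI i α), specMap_chart_eq_pt β (hI j β)]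
    exact (pt_scale_eval (γ.comp (algebraMap K S)) (fun l => γ (α (co i l))) (fun l => γ (β (co j l)))
      (γ (β (co j i))) (fun l => (congrArg γ (hsmul l)).trans (map_mul γ _ _)) i j (hI i α) (hI j β)).symm

omit [Algebra k K] [Algebra k S] [IsScalarTower k K S] in
theorem exists_chart_factor (g : Spec (CommRingCat.of S) ⟶ CohB1.ProjSpace m K)
    (hg : g ≫ CohB1.ProjSpace.toSpec m K = Spec.map (CommRingCat.ofHom (algebraMap K S))) :
    ∃ (i : Fin (m + 1)) (α : Ch K i →ₐ[K] S), Spec.map (CommRingCat.ofHom α.toRingHom) ≫ chart K i = g := by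
  obtain ⟨i, y, hy⟩ := (Proj.affineOpenCoverOfIrrelevantLESpan (CohB1.polyGrading m K) _
    (fun l => X_mem l) (fun _ => one_pos) (SegreX.irrelevant_le_span m K)).openCover.exists_eq
      (g (IsLocalRing.closedPoint S))
  have hr : Set.range g ⊆ Set.range (chart K i) := by
    rintro _ ⟨z, rfl⟩
    have hsp : z ⤳ IsLocalRing.closedPoint S := IsLocalRing.specializes_closedPoint z
    exact (hsp.map g.continuous).mem_open (chart K i).opensRange.isOpen ⟨y, hy⟩
  let a := IsOpenImmersion.lift (chart K i) g hr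
  have ha : a ≫ chart K i = g := IsOpenImmersion.lift_fac _ _ _
  obtain ⟨α, hα⟩ := SBAut.exists_algHom (k := K) a (by rw [← chart_toSpec, ← Category.assoc, ha, hg])
  exact ⟨i, α, by rw [show Spec.map (CommRingCat.ofHom α.toRingHom) = a from hα, ha]⟩

end Local

omit [Algebra k A] in
theorem tower_of_algK (S : Type u) [CommRing S] [Algebra K S] :
    letI := baseAlg (k := k) (K := K) S; IsScalarTower k K S := baseAlg_tower S

include hA in
theorem exists_toProj :
    ∃ h : CohB1.ProjSpace m K ⟶ BrSev.bc f K, (∀ i, chart K i ≫ h = chartPt Φ hA s i) ∧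
      h ≫ BrSev.bcTo f K = CohB1.ProjSpace.toSpec m K := by
  let 𝒰 := (Proj.affineOpenCoverOfIrrelevantLESpan (CohB1.polyGrading m K) _
    (fun l => X_mem l) (fun _ => one_pos) (SegreX.irrelevant_le_span m K)).openCover
  have hglue : ∀ i j : Fin (m + 1), pullback.fst (chart K i) (chart K j) ≫ chartPt Φ hA s i =
      pullback.snd (chart K i) (chart K j) ≫ chartPt Φ hA s j := fun i j => by
    refine hom_ext_fromSpecStalk _ _ fun z => ?_
    let Z := pullback (chart K i) (chart K j)
    let S : Type u := Z.presheaf.stalk z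
    let a : Spec (CommRingCat.of S) ⟶ Spec (CommRingCat.of (Ch K i)) := Z.fromSpecStalk z ≫ pullback.fst _ _
    let b : Spec (CommRingCat.of S) ⟶ Spec (CommRingCat.of (Ch K j)) := Z.fromSpecStalk z ≫ pullback.snd _ _
    letI : Algebra K S := algOf (Spec.map (CommRingCat.ofHom (algebraMap K (Ch K i)))) a
    letI := baseAlg (k := k) (K := K) S
    haveI := tower_of_algK (k := k) (K := K) S
    haveI : IsLocalRing S := inferInstanceAs (IsLocalRing (Z.presheaf.stalk z))
    have hab : a ≫ chart K i = b ≫ chart K j := by simp only [a, b, Category.assoc, pullback.condition]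
    have ha := algOf_spec (Spec.map (CommRingCat.ofHom (algebraMap K (Ch K i)))) a
    obtain ⟨α, hα⟩ := SBAut.exists_algHom (k := K) a ha
    obtain ⟨β, hβ⟩ := SBAut.exists_algHom (k := K) b (by
      rw [← chart_toSpec, ← Category.assoc, ← hab, Category.assoc, chart_toSpec]; exact ha)
    rw [← Category.assoc, ← Category.assoc]
    show a ≫ _ = b ≫ _
    rw [← hα, ← hβ] at hab ⊢
    rw [show Spec.map (CommRingCat.ofHom (α : Ch K i →+* S)) = Spec.map (CommRingCat.ofHom α.toRingHom) from rfl,
      show Spec.map (CommRingCat.ofHom (β : Ch K j →+* S)) = Spec.map (CommRingCat.ofHom β.toRingHom) from rfl,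
      specMap_chartPt, specMap_chartPt]
    exact congrArg _ ((vecPt_eq_iff Φ hA _ _ _).2 ((chart_eq_iff α β).1 hab).symm)
  let h := 𝒰.glueMorphisms (fun i => chartPt Φ hA s i) hglue
  refine ⟨h, fun i => 𝒰.ι_glueMorphisms _ hglue i, 𝒰.hom_ext _ _ fun i => ?_⟩
  show chart K i ≫ h ≫ _ = chart K i ≫ _
  rw [← Category.assoc, show chart K i ≫ h = chartPt Φ hA s i from 𝒰.ι_glueMorphisms _ hglue i, chart_toSpec]
  exact toXK_bcTo K s _

include Φ hA s in
theorem exists_splitting_chart :
    ∃ e : BrSev.Splitting f K m, ∀ i, chart K i ≫ e.iso.inv = chartPt Φ hA s i := by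
  obtain ⟨h, hh, hbc⟩ := exists_toProj Φ hA s
  haveI : Mono h := ⟨fun {W} g₁ g₂ e => by
    refine hom_ext_fromSpecStalk _ _ fun z => ?_
    let S : Type u := W.presheaf.stalk z
    let a₁ : Spec (CommRingCat.of S) ⟶ CohB1.ProjSpace m K := W.fromSpecStalk z ≫ g₁
    let a₂ : Spec (CommRingCat.of S) ⟶ CohB1.ProjSpace m K := W.fromSpecStalk z ≫ g₂
    have e' : a₁ ≫ h = a₂ ≫ h := by simp only [a₁, a₂, Category.assoc, e]
    letI : Algebra K S := algOf (CohB1.ProjSpace.toSpec m K) a₁
    letI := baseAlg (k := k) (K := K) S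
    haveI := tower_of_algK (k := k) (K := K) S
    haveI : IsLocalRing S := inferInstanceAs (IsLocalRing (W.presheaf.stalk z))
    have h₁ := algOf_spec (CohB1.ProjSpace.toSpec m K) a₁
    obtain ⟨i, α, hα⟩ := exists_chart_factor a₁ h₁
    obtain ⟨j, β, hβ⟩ := exists_chart_factor a₂ (by rw [← hbc, ← Category.assoc, ← e', Category.assoc, hbc, h₁])
    show a₁ = a₂
    rw [← hα, ← hβ] at e' ⊢
    rw [Category.assoc, Category.assoc, hh, hh, specMap_chartPt, specMap_chartPt] at e'
    exact (chart_eq_iff α β).2 ((vecPt_eq_iff Φ hA _ _ _).1 (toXK_injective K s e')).symm⟩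
  have hsec : ∀ x : BrSev.bc f K, ∃ (R : Type u) (_ : CommRing R) (j : Spec (CommRingCat.of R) ⟶ BrSev.bc f K),
      IsOpenImmersion j ∧ x ∈ Set.range j ∧ ∃ t : Spec (CommRingCat.of R) ⟶ CohB1.ProjSpace m K, t ≫ h = j := by
    intro x
    obtain ⟨U, hU, hxU, -⟩ := exists_isAffineOpen_mem_and_subset (TopologicalSpace.Opens.mem_top x)
    let R : Type u := Γ(BrSev.bc f K, U)
    let j₀ : Spec (CommRingCat.of R) ⟶ BrSev.bc f K := hU.fromSpec
    haveI : IsOpenImmersion j₀ := inferInstanceAs (IsOpenImmersion hU.fromSpec)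
    obtain ⟨q, hq⟩ : x ∈ Set.range j₀ := hU.range_fromSpec.symm ▸ hxU
    letI : Algebra K R := algOf (BrSev.bcTo f K) j₀
    letI := baseAlg (k := k) (K := K) R
    haveI := tower_of_algK (k := k) (K := K) R
    obtain ⟨N, hN⟩ := exists_toXK K s j₀ (algOf_spec (BrSev.bcTo f K) j₀)
    obtain ⟨x₀, hx₀, a, i, hi⟩ := exists_entry_notMem Φ hA (Nat.succ_pos m) N q.asIdeal
    let r := splitHom Φ R x₀ a i
    let R' : Type u := Localization.Away r
    haveI : IsScalarTower k K R' := IsScalarTower.of_algebraMap_eq fun c => by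
      rw [IsScalarTower.algebraMap_apply k R R', IsScalarTower.algebraMap_apply k K R,
        ← IsScalarTower.algebraMap_apply K R R']
    let φ : R →ₐ[K] R' := IsScalarTower.toAlgHom K R R'
    let j : Spec (CommRingCat.of R') ⟶ BrSev.bc f K := Spec.map (CommRingCat.ofHom φ.toRingHom) ≫ j₀
    haveI : IsOpenImmersion (Spec.map (CommRingCat.ofHom φ.toRingHom)) :=
      IsOpenImmersion.of_isLocalization (R := R) (S := R') r
    refine ⟨R', inferInstance, j, inferInstance, ?_, ?_⟩
    · obtain ⟨q', hq'⟩ : q ∈ Set.range (PrimeSpectrum.comap (algebraMap R R')) := by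
        rw [PrimeSpectrum.localization_away_comap_range R' r]; exact hi
      exact ⟨q', (Scheme.Hom.comp_apply _ _ _).trans ((congrArg j₀ hq').trans hq)⟩
    obtain ⟨u, hu⟩ := IsLocalization.Away.algebraMap_isUnit (S := R') r
    let v : Fin (m + 1) → R' := fun l => ((u⁻¹ : R'ˣ) : R') * φ (splitHom Φ R x₀ a l)
    have hvi : v i = 1 := by
      show ((u⁻¹ : R'ˣ) : R') * algebraMap R R' r = 1
      rw [← hu, Units.inv_mul]
    have hunit : IsUnit (MvPolynomial.eval₂Hom (algebraMap K R') v (MvPolynomial.X i)) := by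
      rw [MvPolynomial.eval₂Hom_X', hvi]; exact isUnit_one
    let α : Ch K i →ₐ[K] R' :=
      { coordHom (CohB1.polyGrading m K) (MvPolynomial.eval₂Hom (algebraMap K R') v) hunit with
        commutes' := fun c => (coordHom_cst _ i hunit c).trans (MvPolynomial.eval₂Hom_C _ _ c) }
    have hαv : ∀ l, α (co i l) = v l := fun l => (coordHom_crd _ i hunit
      (by rw [MvPolynomial.eval₂Hom_X', hvi]) l).trans (MvPolynomial.eval₂Hom_X' _ _ _)
    refine ⟨Spec.map (CommRingCat.ofHom α.toRingHom) ≫ chart K i, ?_⟩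
    rw [Category.assoc, hh]
    refine hom_ext_fromSpecStalk _ _ fun z => ?_
    let S : Type u := (Spec (CommRingCat.of R')).presheaf.stalk z
    let g : Spec (CommRingCat.of S) ⟶ Spec (CommRingCat.of R') := (Spec (CommRingCat.of R')).fromSpecStalk z
    letI : Algebra K S := algOf (Spec.map (CommRingCat.ofHom (algebraMap K R'))) g
    letI := baseAlg (k := k) (K := K) S
    haveI := tower_of_algK (k := k) (K := K) S
    haveI : IsLocalRing S := inferInstanceAs (IsLocalRing ((Spec (CommRingCat.of R')).presheaf.stalk z))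
    obtain ⟨ψ, hψ⟩ := SBAut.exists_algHom (k := K) g (algOf_spec (Spec.map (CommRingCat.ofHom (algebraMap K R'))) g)
    show g ≫ _ = g ≫ j
    rw [show g = Spec.map (CommRingCat.ofHom ψ.toRingHom) from hψ.symm, ← Category.assoc, ← Spec.map_comp,
      ← CommRingCat.ofHom_comp, show ψ.toRingHom.comp α.toRingHom = (ψ.comp α).toRingHom from rfl, specMap_chartPt]
    show _ = Spec.map (CommRingCat.ofHom ψ.toRingHom) ≫ Spec.map (CommRingCat.ofHom φ.toRingHom) ≫ j₀
    rw [← Category.assoc, ← Spec.map_comp, ← CommRingCat.ofHom_comp,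
      show ψ.toRingHom.comp φ.toRingHom = (ψ.comp φ).toRingHom from rfl, ← hN, specMap_toXK]
    have hw : IsUni ((ψ.comp φ) ∘ splitHom Φ R x₀ a) := isUni_of_isUnit (i := i) (by
      show IsUnit (ψ (algebraMap R R' r))
      rw [← hu]; exact u.isUnit.map ψ)
    rw [sbMap_eq_vecPt_of_row Φ hA (Nat.succ_pos m) (ψ.comp φ) N x₀ hx₀ a hw]
    refine congrArg _ ((vecPt_eq_iff Φ hA _ _ _).2 (rel_of_smul_eq (c := ψ ((u⁻¹ : R'ˣ) : R')) (funext fun l => ?_)))
    show ψ (α (co i l)) = ψ ((u⁻¹ : R'ˣ) : R') * ψ (φ (splitHom Φ R x₀ a l))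
    rw [hαv, ← map_mul]
  choose R hR j hj hx t ht using hsec
  let 𝒱 : (BrSev.bc f K).OpenCover := Scheme.Cover.mkOfCovers (BrSev.bc f K : Type u)
    (fun x => Spec (CommRingCat.of (R x))) j (fun x => ⟨x, hx x⟩) hj
  let σ := 𝒱.glueMorphisms t fun a b => by
    rw [← cancel_mono h, Category.assoc, Category.assoc]
    exact (congrArg (pullback.fst (j a) (j b) ≫ ·) (ht a)).trans
      ((pullback.condition).trans (congrArg (pullback.snd (j a) (j b) ≫ ·) (ht b)).symm)
  have hσ : σ ≫ h = 𝟙 _ := 𝒱.hom_ext _ _ fun a => by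
    show 𝒱.f a ≫ σ ≫ h = _
    rw [← Category.assoc, 𝒱.ι_glueMorphisms, Category.comp_id]
    exact ht a
  have hσ' : h ≫ σ = 𝟙 _ := by rw [← cancel_mono h, Category.assoc, hσ, Category.id_comp, Category.comp_id]
  exact ⟨⟨⟨σ, h, hσ, hσ'⟩, by rw [← hbc, ← Category.assoc, hσ, Category.id_comp]⟩, hh⟩

include Φ hA s in
theorem nonempty_splitting : Nonempty (BrSev.Splitting f K m) :=
  let ⟨e, _⟩ := exists_splitting_chart Φ hA s
  ⟨e⟩

end Groth.Agent.BrauerXSB
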