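import Groth.Agent.SBAut.Split

/-!
# Left ideals attached to unimodular vectors over arbitrary rings
-/

universe u

open Matrix
open scoped TensorProduct

noncomputable section

namespace Groth.Agent.BrauerXSB

open Groth.Agent.SBAut

variable {n : ℕ}

/-- The quotient by the row ideal of a unimodular vector is projective of constant rank `n * n - n`. -/
theorem rowIdeal_quotient_general {R : Type u} [CommRing R] {v : Fin n → R} (hv : IsUni v) :
    Module.Finite R (Matrix (Fin n) (Fin n) R ⧸ rowIdeal v) ∧
      Module.Projective R (Matrix (Fin n) (Fin n) R ⧸ rowIdeal v) ∧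
        ∀ q, Module.rankAtStalk (R := R) (Matrix (Fin n) (Fin n) R ⧸ rowIdeal v) q = n * n - n := by
  obtain ⟨w, hw⟩ := hv
  let ret : Matrix (Fin n) (Fin n) R →ₗ[R] (Fin n → R) :=
    { toFun := fun M => M *ᵥ w
      map_add' := fun M N => Matrix.add_mulVec M N w
      map_smul' := fun c M => Matrix.smul_mulVec c M w }
  let inj : (Fin n → R) →ₗ[R] Matrix (Fin n) (Fin n) R :=
    { toFun := fun c => vecMulVec c v
      map_add' := fun c d => Matrix.add_vecMulVec c d v
      map_smul' := fun r c => Matrix.smul_vecMulVec r c v }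
  let pr : Matrix (Fin n) (Fin n) R →ₗ[R] Matrix (Fin n) (Fin n) R := LinearMap.id - inj.comp ret
  have hri : ∀ c, ret (inj c) = c := fun c => by
    funext i
    show (vecMulVec c v *ᵥ w) i = c i
    simp only [mulVec, dotProduct, vecMulVec_apply, mul_assoc, ← Finset.mul_sum]
    rw [show ∑ j, v j * w j = 1 by rw [← hw]; exact Finset.sum_congr rfl fun j _ => mul_comm _ _, mul_one]
  have hker : LinearMap.ker pr = rowIdeal v := by
    ext M
    simp only [LinearMap.mem_ker, pr, LinearMap.sub_apply, LinearMap.id_apply, LinearMap.comp_apply, sub_eq_zero,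
      mem_rowIdeal]
    constructor
    · intro h i
      refine rel_of_smul_eq (c := (M *ᵥ w) i) ?_
      funext j
      calc M i j = inj (ret M) i j := congrFun (congrFun h i) j
        _ = _ := rfl
    · intro h
      refine Matrix.ext fun i j => ?_
      show M i j = (M *ᵥ w) i * v j
      rw [congrFun ((h i).eq_smul hw) j]
      simp only [Pi.smul_apply, smul_eq_mul, mulVec, dotProduct]
      exact congrArg (· * v j) (Finset.sum_congr rfl fun a _ => mul_comm _ _)
  have hrange : LinearMap.range pr = LinearMap.ker ret := by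
    ext M
    constructor
    · rintro ⟨N, rfl⟩
      simp [pr, hri]
    · intro hM
      exact ⟨M, by simp [pr, LinearMap.mem_ker.mp hM]⟩
  let e : (Matrix (Fin n) (Fin n) R ⧸ rowIdeal v) ≃ₗ[R] LinearMap.ker ret :=
    (Submodule.quotEquivOfEq _ _ hker.symm).trans ((LinearMap.quotKerEquivRange pr).trans (LinearEquiv.ofEq _ _ hrange))
  haveI : Module.Finite R (LinearMap.ker ret) := Module.Finite.equiv e
  haveI : Module.Projective R (LinearMap.ker ret) :=
    Module.Projective.of_split (LinearMap.ker ret).subtype
      ((LinearMap.id - inj.comp ret).codRestrict _ fun M => by simp [hri])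
      (LinearMap.ext fun M => Subtype.ext (by simp [LinearMap.mem_ker.mp M.2]))
  let E : Matrix (Fin n) (Fin n) R ≃ₗ[R] LinearMap.ker ret × (Fin n → R) :=
    { toFun := fun M => (⟨M - inj (ret M), by simp [hri]⟩, ret M)
      map_add' := fun M N => by
        ext <;> simp <;> abel
      map_smul' := fun c M => by
        ext <;> simp [mul_sub]
      invFun := fun z => (z.1 : Matrix (Fin n) (Fin n) R) + inj z.2
      left_inv := fun M => by simp
      right_inv := fun z => by
        have := LinearMap.mem_ker.mp z.1.2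
        ext <;> simp [hri, this] }
  refine ⟨inferInstance, Module.Projective.of_equiv e.symm, fun q => ?_⟩
  rw [Module.rankAtStalk_eq_of_equiv e]
  have h := congrFun (Module.rankAtStalk_eq_of_equiv (R := R) E) q
  haveI : Nontrivial R := q.nontrivial
  have h1 : Module.rankAtStalk (R := R) (Matrix (Fin n) (Fin n) R) q = n * n := by
    rw [Module.rankAtStalk_eq_finrank_of_free]
    simp [Module.finrank_matrix]
  have h2 : Module.rankAtStalk (R := R) (Fin n → R) q = n := by
    rw [Module.rankAtStalk_eq_finrank_of_free]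
    simp
  rw [Module.rankAtStalk_prod, Pi.add_apply, h1, h2] at h
  omega

variable {k : Type u} [Field k] {A : Type u} [Ring A] [Algebra k A] {K : Type u} [Field K] [Algebra k K]
  (Φ : K ⊗[k] A ≃ₐ[K] Matrix (Fin n) (Fin n) K)
  {R : Type u} [CommRing R] [Algebra k R] [Algebra K R] [IsScalarTower k K R]
  (hA : Module.finrank k A = n * n) (hn : 0 < n)

/-- The left ideal attached to a unimodular vector, over any algebra over the splitting field. -/
def genPt (v : Fin n → R) (hv : IsUni v) : BrSev.SBSet k A (n * n - n) R :=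
  have hmap : ((rowIdeal v).comap ((split Φ R hA hn).toLinearEquiv : R ⊗[k] A →ₗ[R] Matrix (Fin n) (Fin n) R)).map
      ((split Φ R hA hn).toLinearEquiv : R ⊗[k] A →ₗ[R] Matrix (Fin n) (Fin n) R) = rowIdeal v :=
    Submodule.map_comap_eq_of_surjective (split Φ R hA hn).toLinearEquiv.surjective _
  ⟨{ toSubmodule := (rowIdeal v).comap ((split Φ R hA hn).toLinearEquiv : R ⊗[k] A →ₗ[R] Matrix (Fin n) (Fin n) R)
     finite_quotient := by
      haveI := (rowIdeal_quotient_general hv).1
      exact Module.Finite.equiv (Submodule.Quotient.equiv _ _ (split Φ R hA hn).toLinearEquiv hmap).symm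
     projective_quotient := by
      haveI := (rowIdeal_quotient_general hv).2.1
      exact Module.Projective.of_equiv (Submodule.Quotient.equiv _ _ (split Φ R hA hn).toLinearEquiv hmap).symm
     rankAtStalk_eq := fun q => by
      rw [Module.rankAtStalk_eq_of_equiv (Submodule.Quotient.equiv _ _ (split Φ R hA hn).toLinearEquiv hmap)]
      exact (rowIdeal_quotient_general hv).2.2 q }, by
    intro a x hx
    show split Φ R hA hn (a * x) ∈ rowIdeal v
    rw [map_mul]
    exact mul_mem_rowIdeal _ hx⟩

theorem mem_genPt {v : Fin n → R} (hv : IsUni v) (x : R ⊗[k] A) :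
    x ∈ (genPt Φ hA hn v hv).1.toSubmodule ↔ splitHom Φ R x ∈ rowIdeal v := Iff.rfl

/-- the vector attached to a base change of a left ideal containing a matrix with a given row -/
theorem sbMap_eq_vecPt_of_row {S : Type u} [CommRing S] [Algebra k S] [Algebra K S] [IsScalarTower k K S]
    [IsLocalRing S] (φ : R →ₐ[K] S) (N : BrSev.SBSet k A (n * n - n) R) (x : R ⊗[k] A)
    (hx : x ∈ N.1.toSubmodule) (a : Fin n) (hv : IsUni (φ ∘ (splitHom Φ R x a))) :
    sbMap (φ.restrictScalars k) N = vecPt Φ hA hn (φ ∘ (splitHom Φ R x a)) hv := by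
  obtain ⟨v', hv', h⟩ := exists_vecPt Φ hA hn (sbMap (φ.restrictScalars k) N)
  rw [← h, vecPt_eq_iff]
  have hmem : bc (φ.restrictScalars k) x ∈ (sbMap (φ.restrictScalars k) N).1.toSubmodule :=
    mem_map_of_mem _ _ hx
  rw [← h, mem_vecPt, splitHom_bc_map] at hmem
  exact (hmem a).symm

theorem sbMap_genPt {S : Type u} [CommRing S] [Algebra k S] [Algebra K S] [IsScalarTower k K S] [IsLocalRing S]
    (φ : R →ₐ[K] S) {v : Fin n → R} (hv : IsUni v) :
    sbMap (φ.restrictScalars k) (genPt Φ hA hn v hv) = vecPt Φ hA hn (φ ∘ v) (hv.map φ) := by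
  obtain ⟨x, hx⟩ := (splitHom_bijective Φ R hA hn).2 (Matrix.of fun _ => v)
  have hrow : splitHom Φ R x ⟨0, hn⟩ = v := by rw [hx]; rfl
  have := sbMap_eq_vecPt_of_row Φ hA hn φ (genPt Φ hA hn v hv) x
    ((mem_genPt Φ hA hn hv x).mpr (by rw [hx]; exact fun _ => Rel.refl v)) ⟨0, hn⟩ (by rw [hrow]; exact hv.map φ)
  simpa only [hrow] using this

include hA hn in
/-- near any prime a left ideal contains a matrix with a unit entry -/
theorem exists_entry_notMem (N : BrSev.SBSet k A (n * n - n) R) (q : Ideal R) [q.IsPrime] :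
    ∃ x ∈ N.1.toSubmodule, ∃ a i, splitHom Φ R x a i ∉ q := by
  by_contra! h
  let S := Localization.AtPrime q
  let φ : R →ₐ[K] S := IsScalarTower.toAlgHom K R S
  haveI : IsScalarTower k K S := IsScalarTower.of_algebraMap_eq fun c => by
    rw [IsScalarTower.algebraMap_apply k R S, IsScalarTower.algebraMap_apply k K R,
      ← IsScalarTower.algebraMap_apply K R S]
  obtain ⟨v, hv, hN⟩ := exists_vecPt Φ hA hn (sbMap (φ.restrictScalars k) N)
  obtain ⟨i, hi⟩ := hv.exists_isUnit
  obtain ⟨y, hy⟩ := (splitHom_bijective Φ S hA hn).2 (Matrix.of fun _ => v)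
  have hmem : y ∈ (sbMap (φ.restrictScalars k) N).1.toSubmodule := by
    rw [← hN, mem_vecPt, hy]; exact fun _ => Rel.refl v
  have key : ∀ z ∈ (Module.Grassmannian.map (φ.restrictScalars k) N.1).toSubmodule, ∀ a b,
      splitHom Φ S z a b ∈ IsLocalRing.maximalIdeal S := by
    intro z hz
    rw [map_toSubmodule_span] at hz
    induction hz using Submodule.span_induction with
    | mem z hz =>
      obtain ⟨x, hx, rfl⟩ := hz
      intro a b
      rw [splitHom_bc_map, Matrix.map_apply]
      exact (IsLocalization.AtPrime.to_map_mem_maximal_iff S q _).2 (h x hx a b)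
    | zero => simp
    | add z z' _ _ hz hz' =>
      intro a b
      rw [map_add, Matrix.add_apply]
      exact add_mem (hz a b) (hz' a b)
    | smul c z _ hz =>
      intro a b
      rw [map_smul, Matrix.smul_apply]
      exact Ideal.mul_mem_left _ _ (hz a b)
  exact (IsLocalRing.mem_maximalIdeal _).1 (by simpa [hy] using key y hmem ⟨0, hn⟩ i) hi

end Groth.Agent.BrauerXSB
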